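import Groth.Agent.NormalBC.Closure
import Groth.Agent.GeomProp.NormalColim
import Mathlib

/-!
Normality of a flat base change of a normal ring.
-/

set_option autoImplicit false
set_option linter.style.haveILetI false

namespace Groth.Agent.NormalBC

universe u

open TensorProduct

/-- A normal ring is integrally closed in its localizations at non-zero-divisors. -/
theorem mem_range_of_isIntegral_localization {T T' : Type u} [CommRing T] [CommRing T'] [Algebra T T']
    (M : Submonoid T) [IsLocalization M T'] (hM : M ≤ nonZeroDivisors T) (hT : EGA4.IsNormalRing T) (x : T')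
    (hx : IsIntegral T x) : x ∈ (algebraMap T T').range := by
  obtain ⟨a, m, rfl⟩ := IsLocalization.exists_mk'_eq M x
  let I : Ideal T :=
    { carrier := {t | ∃ c, t * a = c * m}
      zero_mem' := ⟨0, by simp⟩
      add_mem' := fun {p q} ⟨c, hc⟩ ⟨d, hd⟩ => ⟨c + d, by rw [add_mul, hc, hd, add_mul]⟩
      smul_mem' := fun r p ⟨c, hc⟩ => ⟨r * c, by rw [smul_eq_mul, mul_assoc, hc, mul_assoc]⟩ }
  by_cases hI : I = ⊤
  · obtain ⟨c, hc⟩ : (1 : T) ∈ I := hI ▸ Submodule.mem_top
    exact ⟨c, (IsLocalization.eq_mk'_iff_mul_eq.2 (by rw [← map_mul, ← hc, one_mul]))⟩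
  exfalso
  obtain ⟨P, hP, hle⟩ := Ideal.exists_le_maximal I hI
  obtain ⟨_, _⟩ := hT P
  let TP := Localization.AtPrime P
  let F := FractionRing TP
  have hu : ∀ y : M, IsUnit (algebraMap T F y) := fun y => by
    refine Ne.isUnit fun h => ?_
    rw [IsScalarTower.algebraMap_apply T TP F, IsFractionRing.to_map_eq_zero_iff,
      IsLocalization.map_eq_zero_iff P.primeCompl TP] at h
    obtain ⟨u, hu⟩ := h
    have : (u : T) = 0 := (hM y.2).2 _ hu
    exact u.2 (this ▸ zero_mem P)
  let φ : T' →+* F := IsLocalization.lift hu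
  have hφ : IsIntegral TP (φ (IsLocalization.mk' T' a m)) := by
    obtain ⟨p, hp, hpx⟩ := hx
    refine ⟨p.map (algebraMap T TP), hp.map _, ?_⟩
    rw [Polynomial.eval₂_map, ← IsScalarTower.algebraMap_eq T TP F, ← IsLocalization.lift_comp (S := T') hu]
    have := congrArg φ hpx
    rwa [Polynomial.hom_eval₂, map_zero] at this
  obtain ⟨w, hw⟩ := IsIntegrallyClosed.isIntegral_iff.1 hφ
  obtain ⟨c, ⟨s, hs⟩, rfl⟩ := IsLocalization.exists_mk'_eq P.primeCompl w
  have h1 : algebraMap TP F (algebraMap T TP s) * φ (IsLocalization.mk' T' a m) = algebraMap TP F (algebraMap T TP c) := by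
    rw [← hw, ← map_mul, IsLocalization.mk'_spec'_mk]
  have h2 : algebraMap T F (s * a) = algebraMap T F (c * m) := by
    have h3 : φ (IsLocalization.mk' T' a m) * algebraMap T F m = algebraMap T F a := by
      rw [← IsLocalization.lift_eq (S := T') hu (m : T), ← map_mul, IsLocalization.mk'_spec, IsLocalization.lift_eq]
    rw [map_mul, map_mul, ← h3, ← mul_assoc, IsScalarTower.algebraMap_apply T TP F s, h1,
      ← IsScalarTower.algebraMap_apply]
  rw [IsScalarTower.algebraMap_apply T TP F, IsScalarTower.algebraMap_apply T TP F] at h2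
  obtain ⟨⟨u, hu'⟩, h4⟩ := IsLocalization.exists_of_eq (M := P.primeCompl) (IsFractionRing.injective TP F h2)
  have h5 : u * s ∈ I := ⟨u * c, by rw [mul_assoc, h4, mul_assoc]⟩
  rcases hP.isPrime.mem_or_mem (hle h5) with h | h
  · exact hu' h
  · exact hs h

theorem isDomain_of_connected {T : Type u} [CommRing T] [Nontrivial T] (hT : EGA4.IsNormalRing T)
    (hfin : (minimalPrimes T).Finite) (hidem : ∀ e : T, IsIdempotentElem e → e = 0 ∨ e = 1) : IsDomain T := by
  classical
  haveI : IsReduced T := FlatDepth.isReduced_of_isNormalRing T hT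
  have hco : ∀ p ∈ minimalPrimes T, ∀ q ∈ minimalPrimes T, p ≠ q → IsCoprime p q := fun p hp q hq hne => by
    rw [Ideal.isCoprime_iff_sup_eq]
    by_contra h
    obtain ⟨P, hP, hle⟩ := Ideal.exists_le_maximal _ h
    obtain ⟨_, _⟩ := hT P
    let TP := Localization.AtPrime P
    have key : ∀ r ∈ minimalPrimes T, r ≤ P → r = RingHom.ker (algebraMap T TP) := fun r hr hrP => by
      haveI : r.IsPrime := hr.1.1
      haveI : (RingHom.ker (algebraMap T TP)).IsPrime := RingHom.ker_isPrime _
      have h1 : RingHom.ker (algebraMap T TP) ≤ r := fun t ht => by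
        rw [RingHom.mem_ker, IsLocalization.map_eq_zero_iff P.primeCompl TP] at ht
        obtain ⟨u, hu⟩ := ht
        have h2 : (u : T) * t ∈ r := by rw [hu]; exact zero_mem r
        exact (Ideal.IsPrime.mem_or_mem ‹r.IsPrime› h2).resolve_left fun hur => u.2 (hrP hur)
      exact le_antisymm (hr.2 ⟨inferInstance, bot_le⟩ h1) h1
    exact hne ((key p hp (le_sup_left.trans hle)).trans (key q hq (le_sup_right.trans hle)).symm)
  let S := hfin.toFinset
  let f : S → Ideal T := fun i => i.1
  obtain ⟨p0, hp0⟩ : ∃ p, p ∈ minimalPrimes T :=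
    let ⟨m, hm⟩ := Ideal.exists_maximal T
    let ⟨p, hp, _⟩ := Ideal.exists_minimalPrimes_le (I := (⊥ : Ideal T)) (J := m) bot_le
    ⟨p, hp⟩
  let i0 : S := ⟨p0, hfin.mem_toFinset.2 hp0⟩
  have hmem : ∀ i : S, i.1 ∈ minimalPrimes T := fun i => hfin.mem_toFinset.1 i.2
  obtain ⟨e, he⟩ := Ideal.exists_forall_sub_mem_ideal (I := f)
    (fun i j hij => hco _ (hmem i) _ (hmem j) fun h => hij (Subtype.ext h))
    (fun i => if i = i0 then (1 : T) else 0)
  have hall : ∀ t : T, (∀ i : S, t ∈ i.1) → t = 0 := fun t ht => by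
    rw [← Ideal.mem_bot, ← Submodule.zero_eq_bot, ← nilradical_eq_zero T, nilradical_eq_sInf]
    refine Ideal.mem_sInf.2 fun {Q} hQ => ?_
    haveI : Q.IsPrime := hQ
    obtain ⟨p, hp, hle⟩ := Ideal.exists_minimalPrimes_le (I := (⊥ : Ideal T)) (J := Q) bot_le
    exact hle (ht ⟨p, hfin.mem_toFinset.2 hp⟩)
  have hide : IsIdempotentElem e := by
    refine sub_eq_zero.1 (hall _ fun i => ?_)
    have h1 := he i
    rw [← Ideal.Quotient.eq_zero_iff_mem, map_sub, sub_eq_zero] at h1 ⊢
    rw [map_mul, h1]
    split_ifs <;> simp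
  haveI : p0.IsPrime := hp0.1.1
  have hone : ∀ i : S, i = i0 := fun i => by
    by_contra hi
    have h0 := he i0
    have h1 := he i
    simp only [if_pos, hi, if_false, sub_zero] at h0 h1
    rcases hidem e hide with rfl | rfl
    · exact Ideal.IsPrime.ne_top ‹p0.IsPrime› ((Ideal.eq_top_iff_one _).2 (by simpa [f] using h0))
    · exact (hmem i).1.1.ne_top ((Ideal.eq_top_iff_one _).2 h1)
  haveI : NoZeroDivisors T := ⟨fun {a b} hab => by
    rcases Ideal.IsPrime.mem_or_mem ‹p0.IsPrime› (hab ▸ zero_mem p0 : a * b ∈ p0) with h | h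
    · exact Or.inl (hall a fun i => by rw [hone i]; exact h)
    · exact Or.inr (hall b fun i => by rw [hone i]; exact h)⟩
  exact NoZeroDivisors.to_isDomain T

theorem finite_minimalPrimes_of_localization {T T' : Type u} [CommRing T] [CommRing T'] [Algebra T T']
    (M : Submonoid T) [IsLocalization M T'] (hfin : (minimalPrimes T).Finite) : (minimalPrimes T').Finite := by
  refine Set.Finite.of_injOn (f := Ideal.comap (algebraMap T T')) (fun Q hQ => ?_) (fun Q _ Q' _ h => ?_) hfin
  · haveI : Q.IsPrime := hQ.1.1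
    refine ⟨⟨Ideal.IsPrime.comap _, bot_le⟩, fun p hp hle => ?_⟩
    haveI := hp.1
    have hd : Disjoint (M : Set T) p := Set.disjoint_left.2 fun m hm hmp =>
      Ideal.IsPrime.ne_top ‹Q.IsPrime› (Ideal.eq_top_of_isUnit_mem _ (hle hmp) (IsLocalization.map_units T' ⟨m, hm⟩))
    haveI := IsLocalization.isPrime_of_isPrime_disjoint M T' p inferInstance hd
    have h1 : Q ≤ p.map (algebraMap T T') := hQ.2 ⟨inferInstance, bot_le⟩ (Ideal.map_le_iff_le_comap.2 hle)
    exact (Ideal.comap_mono h1).trans (IsLocalization.under_map_of_isPrime_disjoint M T' inferInstance hd).le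
  · rw [← IsLocalization.map_under M T' Q, ← IsLocalization.map_under M T' Q']
    exact congrArg (Ideal.map _) h

theorem isIntegrallyClosed_of_injective {RP TP : Type u} [CommRing RP] [CommRing TP] [IsDomain RP] [IsDomain TP]
    [IsIntegrallyClosed TP] (g : RP →+* TP) (hg : Function.Injective g)
    (hgc : ∀ z : TP, g.IsIntegralElem z → z ∈ g.range) : IsIntegrallyClosed RP := by
  refine (isIntegrallyClosed_iff (FractionRing RP)).2 fun {x} hx => ?_
  have hF : Function.Injective ((algebraMap TP (FractionRing TP)).comp g) :=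
    (IsFractionRing.injective TP (FractionRing TP)).comp hg
  obtain ⟨ψ, hψ⟩ : ∃ ψ : FractionRing RP →+* FractionRing TP, ψ.comp (algebraMap RP (FractionRing RP)) =
      (algebraMap TP (FractionRing TP)).comp g :=
    ⟨IsFractionRing.lift (K := FractionRing RP) hF,
      RingHom.ext fun r => IsFractionRing.lift_algebraMap (K := FractionRing RP) hF r⟩
  obtain ⟨p, hp, hpx⟩ := hx
  have h1 : Polynomial.eval₂ (algebraMap TP (FractionRing TP)) (ψ x) (p.map g) = 0 := by
    rw [Polynomial.eval₂_map, ← hψ, ← Polynomial.hom_eval₂, hpx, map_zero]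
  obtain ⟨y, hy⟩ := IsIntegrallyClosed.isIntegral_iff.1
    (⟨p.map g, hp.map g, h1⟩ : IsIntegral TP (ψ x))
  obtain ⟨r, hr⟩ := hgc y ⟨p, hp, IsFractionRing.injective TP (FractionRing TP) (by
    rw [Polynomial.hom_eval₂, hy, map_zero, ← Polynomial.eval₂_map]
    exact h1)⟩
  exact ⟨r, ψ.injective ((RingHom.congr_fun hψ r).trans (by rw [← hy, ← hr]; rfl))⟩

/-- The normalization of a subdomain maps to an integrally closed domain. -/
theorem exists_closure_map (A B0 L0 Bp : Type u) [CommRing A] [CommRing B0] [Field L0] [CommRing Bp] [IsDomain Bp]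
    [IsIntegrallyClosed Bp] [Algebra A B0] [Algebra B0 L0] [IsFractionRing B0 L0] [Algebra A L0]
    [IsScalarTower A B0 L0] [Algebra A Bp] (v : B0 →ₐ[A] Bp) (hv : Function.Injective v) :
    ∃ j : integralClosure B0 L0 →ₐ[A] Bp, Function.Injective j ∧
      ∀ b, j (algebraMap B0 (integralClosure B0 L0) b) = v b := by
  have hK : Function.Injective ((algebraMap Bp (FractionRing Bp)).comp v.toRingHom) :=
    (IsFractionRing.injective Bp (FractionRing Bp)).comp hv
  obtain ⟨ι0, hι0⟩ : ∃ ι0 : L0 →+* FractionRing Bp,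
      ι0.comp (algebraMap B0 L0) = (algebraMap Bp (FractionRing Bp)).comp v.toRingHom :=
    ⟨IsFractionRing.lift (K := L0) hK, RingHom.ext fun b => IsFractionRing.lift_algebraMap (K := L0) hK b⟩
  have hmem : ∀ b : integralClosure B0 L0, ∃ y : Bp, algebraMap Bp (FractionRing Bp) y = ι0 b := fun b => by
    obtain ⟨q, hq, hqb⟩ := (b.2 : IsIntegral B0 (b : L0))
    refine IsIntegrallyClosed.isIntegral_iff.1
      (⟨q.map v.toRingHom, hq.map _, ?_⟩ : IsIntegral Bp (ι0 b))
    rw [Polynomial.eval₂_map, ← hι0, ← Polynomial.hom_eval₂, hqb, map_zero]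
  choose j hj using hmem
  have hKinj := IsFractionRing.injective Bp (FractionRing Bp)
  let jA : integralClosure B0 L0 →ₐ[A] Bp :=
    { toFun := j
      map_one' := hKinj (by rw [hj, map_one, OneMemClass.coe_one, map_one])
      map_mul' := fun a b => hKinj (by rw [map_mul, hj, hj, hj, MulMemClass.coe_mul, map_mul])
      map_zero' := hKinj (by rw [hj, map_zero, ZeroMemClass.coe_zero, map_zero])
      map_add' := fun a b => hKinj (by rw [map_add, hj, hj, hj, AddMemClass.coe_add, map_add])
      commutes' := fun a => hKinj (by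
        rw [hj, ← v.commutes a]
        show ι0 (algebraMap A L0 a) = _
        rw [IsScalarTower.algebraMap_apply A B0 L0]
        exact RingHom.congr_fun hι0 _) }
  refine ⟨jA, fun a b hab => Subtype.ext (ι0.injective ?_), fun b => hKinj ?_⟩
  · rw [← hj, ← hj]
    exact congrArg _ hab
  · show algebraMap Bp (FractionRing Bp) (j _) = _
    rw [hj]
    exact RingHom.congr_fun hι0 b

/-- A ring integrally closed in a normal overring with finitely many minimal primes is normal. -/
theorem isNormalRing_of_integrallyClosed {R T : Type u} [CommRing R] [CommRing T] (f : R →+* T)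
    (hf : Function.Injective f) (hT : EGA4.IsNormalRing T) (hfin : (minimalPrimes T).Finite)
    (hic : ∀ t : T, f.IsIntegralElem t → t ∈ f.range) : EGA4.IsNormalRing R := fun P _ => by
  classical
  let RP := Localization.AtPrime P
  let M' := P.primeCompl.map f
  let TP := Localization M'
  let g : RP →+* TP := IsLocalization.map TP f (Submonoid.le_comap_map P.primeCompl)
  have hg : Function.Injective g := (injective_iff_map_eq_zero g).2 fun z hz => by
    obtain ⟨r, s, rfl⟩ := IsLocalization.exists_mk'_eq P.primeCompl z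
    rw [IsLocalization.map_mk', IsLocalization.mk'_eq_zero_iff] at hz
    obtain ⟨⟨_, u, hu, rfl⟩, h⟩ := hz
    rw [IsLocalization.mk'_eq_zero_iff]
    exact ⟨⟨u, hu⟩, hf (by rw [map_mul, map_zero]; exact h)⟩
  have hTP : EGA4.IsNormalRing TP := GeomProp.isNormalRing_of_isLocalization M' hT
  have hfinP : (minimalPrimes TP).Finite := finite_minimalPrimes_of_localization M' hfin
  have hgc : ∀ z : TP, g.IsIntegralElem z → z ∈ g.range := fun z hz => by
    obtain ⟨t, ⟨_, s, hs, rfl⟩, rfl⟩ := IsLocalization.exists_mk'_eq M' z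
    let h : R →+* TP := (algebraMap T TP).comp f
    have hcomp : g.comp (algebraMap R RP) = h := IsLocalization.map_comp _
    letI : Algebra R TP := h.toAlgebra
    letI : Algebra RP TP := g.toAlgebra
    haveI : IsScalarTower R RP TP := IsScalarTower.of_algebraMap_eq fun r => (RingHom.congr_fun hcomp r).symm
    obtain ⟨⟨v, hv⟩, hvint⟩ := IsIntegral.exists_multiple_integral_of_isLocalization (R := R) (Rₘ := RP)
      P.primeCompl (algebraMap T TP t) (by
        have h1 : IsIntegral RP (IsLocalization.mk' TP t (⟨f s, s, hs, rfl⟩ : M')) := hz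
        have h2 : IsIntegral RP (algebraMap T TP (f s)) := by
          rw [show algebraMap T TP (f s) = algebraMap RP TP (algebraMap R RP s) from
            (RingHom.congr_fun hcomp s).symm]
          exact isIntegral_algebraMap
        have := h1.mul h2
        rwa [IsLocalization.mk'_spec] at this)
    obtain ⟨p, hp, hpz⟩ := hvint
    have h3 : algebraMap T TP (Polynomial.eval₂ f (f v * t) p) = 0 := by
      rw [Polynomial.hom_eval₂]
      refine Eq.trans ?_ hpz
      rw [map_mul, Submonoid.smul_def, Algebra.smul_def]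
      rfl
    rw [IsLocalization.map_eq_zero_iff M'] at h3
    obtain ⟨⟨_, w, hw, rfl⟩, h4⟩ := h3
    have h5 : f.IsIntegralElem (f (w * v) * t) := by
      refine ⟨p.scaleRoots w, (Polynomial.monic_scaleRoots_iff w).2 hp, ?_⟩
      rcases Nat.eq_zero_or_pos p.natDegree with h0 | h0
      · rw [hp.natDegree_eq_zero.1 h0] at h4 ⊢
        simp only [Polynomial.eval₂_one, mul_one] at h4
        exact absurd (hf (by rw [h4, map_zero]) : w = 0) (fun hw0 => hw (hw0 ▸ zero_mem P))
      · rw [map_mul, mul_assoc, Polynomial.scaleRoots_eval₂_mul, ← Nat.sub_add_cancel h0, pow_succ, mul_assoc, h4, mul_zero]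
    obtain ⟨r, hr⟩ := hic _ h5
    have hwv : w * v * s ∈ P.primeCompl := P.primeCompl.mul_mem (P.primeCompl.mul_mem hw hv) hs
    refine ⟨IsLocalization.mk' RP r ⟨w * v * s, hwv⟩, ?_⟩
    rw [IsLocalization.map_mk', IsLocalization.mk'_eq_iff_eq]
    congr 1
    show f s * f r = f (w * v * s) * t
    simp only [hr, map_mul]
    ring
  haveI : Nontrivial TP := hg.nontrivial
  haveI hdom : IsDomain TP := isDomain_of_connected hTP hfinP fun e he => by
    obtain ⟨r, rfl⟩ := hgc e ⟨Polynomial.X ^ 2 - Polynomial.X, Polynomial.monic_X_pow_sub (by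
      simpa using (Polynomial.degree_X_le (R := RP)).trans_lt (WithBot.coe_lt_coe.2 one_lt_two)), by
      rw [Polynomial.eval₂_sub, Polynomial.eval₂_X_pow, Polynomial.eval₂_X, pow_two, he.eq, sub_self]⟩
    have hr : r * r = r := hg (by rw [map_mul]; exact he)
    rcases IsLocalRing.isUnit_or_isUnit_one_sub_self r with h | h
    · refine Or.inr ?_
      rw [(h.mul_eq_left).1 hr, map_one]
    · refine Or.inl ?_
      have : (1 - r) * r = 0 := by rw [sub_mul, one_mul, hr, sub_self]
      rw [(h.mul_right_eq_zero).1 this, map_zero]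
  haveI : IsDomain RP := hg.isDomain
  haveI : IsIntegrallyClosed TP := IsIntegrallyClosed.of_localization_maximal fun q _ hq => (hTP q).2
  exact ⟨inferInstance, isIntegrallyClosed_of_injective g hg hgc⟩

theorem exists_finset_range {A A' B : Type u} [CommRing A] [CommRing A'] [CommRing B] [Algebra A A'] [Algebra A B]
    (G : Finset (A' ⊗[A] B)) : ∃ F : Finset B, ∀ z ∈ G, ∀ (S : Subalgebra A B), (F : Set B) ⊆ S →
      z ∈ (Algebra.TensorProduct.map (AlgHom.id A' A') S.val).range := by
  classical
  choose s hs using fun z : A' ⊗[A] B => TensorProduct.exists_finset z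
  refine ⟨G.biUnion fun z => (s z).image Prod.snd, fun z hz S hS => ?_⟩
  rw [hs z]
  exact sum_mem fun i hi => ⟨i.1 ⊗ₜ ⟨i.2, hS (Finset.mem_biUnion.2 ⟨z, hz, Finset.mem_image_of_mem _ hi⟩)⟩, rfl⟩

/-- Flat base change of a normal ring with normal generic fibres. -/
theorem normal_tensor {A A' : Type u} [CommRing A] [IsNoetherianRing A] [CommRing A'] [Algebra A A'] [Module.Flat A A']
    (hred : ∀ (K : Type u) [Field K] [Algebra A K], IsReduced (A' ⊗[A] K))
    (B : Type u) [CommRing B] [Algebra A B] (hB : EGA4.IsNormalRing B)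
    (hnorm : ∀ (L : Type u) [Field L] [Algebra A L] (p : Ideal B) [p.IsPrime],
      (L →ₐ[A] FractionRing (Localization.AtPrime p)) → Algebra.EssFiniteType A L →
        EGA4.IsNormalRing (A' ⊗[A] L) ∧ (minimalPrimes (A' ⊗[A] L)).Finite) :
    EGA4.IsNormalRing (A' ⊗[A] B) := by
  refine FlatDepth.isNormalRing_of_equiv (Algebra.TensorProduct.comm A B A').toRingEquiv
    (GeomProp.normal_localize_left A B A' fun p _ => ?_)
  obtain ⟨_, _⟩ := hB p
  let Bp := Localization.AtPrime p
  refine FlatDepth.isNormalRing_of_equiv (Algebra.TensorProduct.comm A Bp A').symm.toRingEquiv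
    (GeomProp.isNormalRing_of_subrings fun G => ?_)
  classical
  obtain ⟨F, hF⟩ := exists_finset_range G
  let B0 := Algebra.adjoin A (F : Set Bp)
  haveI : Algebra.FiniteType A B0 := (Subalgebra.fg_iff_finiteType B0).1 ⟨F, rfl⟩
  let L0 := FractionRing B0
  haveI : Algebra.EssFiniteType A L0 := Algebra.EssFiniteType.comp A B0 L0
  let B1 := integralClosure B0 L0
  obtain ⟨jA, hjA, hjb⟩ := exists_closure_map A B0 L0 Bp B0.val Subtype.val_injective
  let Ψ := Algebra.TensorProduct.map (AlgHom.id A' A') jA
  have hΨ : Function.Injective Ψ :=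
    Module.Flat.lTensor_preserves_injective_linearMap jA.toLinearMap hjA
  refine ⟨Ψ.toRingHom.range, fun z hz => ?_, ?_⟩
  · obtain ⟨w, hw⟩ := hF z hz B0 Algebra.subset_adjoin
    refine ⟨Algebra.TensorProduct.map (AlgHom.id A' A') (IsScalarTower.toAlgHom A B0 B1) w, ?_⟩
    rw [← hw]
    clear hw
    induction w using TensorProduct.induction_on with
    | zero => simp
    | add a b ha hb => simp only [map_add, AlgHom.toRingHom_eq_coe, RingHom.coe_coe] at *; rw [ha, hb]
    | tmul a b =>
      show a ⊗ₜ[A] jA (algebraMap B0 B1 b) = a ⊗ₜ[A] (b : Bp)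
      rw [hjb]
      rfl
  · refine FlatDepth.isNormalRing_of_equiv (RingEquiv.ofBijective Ψ.toRingHom.rangeRestrict
      ⟨fun x y hxy => hΨ (congrArg Subtype.val hxy), Ψ.toRingHom.rangeRestrict_surjective⟩) ?_
    have hK : Function.Injective ((algebraMap Bp (FractionRing Bp)).comp B0.val.toRingHom) :=
      (IsFractionRing.injective Bp (FractionRing Bp)).comp Subtype.val_injective
    let ι : L0 →ₐ[A] FractionRing Bp :=
      { IsFractionRing.lift (K := L0) hK with
        commutes' := fun a => by
          show IsFractionRing.lift (K := L0) hK (algebraMap A L0 a) = _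
          rw [IsScalarTower.algebraMap_apply A B0 L0, IsFractionRing.lift_algebraMap (K := L0) hK]
          exact (IsScalarTower.algebraMap_apply A Bp (FractionRing Bp) a).symm }
    obtain ⟨hTn, hTf⟩ := hnorm L0 p ι inferInstance
    let φ := Algebra.TensorProduct.map (AlgHom.id A' A') (IsScalarTower.toAlgHom A B1 L0)
    refine isNormalRing_of_integrallyClosed φ.toRingHom
      (Module.Flat.lTensor_preserves_injective_linearMap (IsScalarTower.toAlgHom A B1 L0).toLinearMap
        Subtype.val_injective) hTn hTf fun t ht => ?_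
    obtain ⟨w, hw⟩ := closure_tensor hred t ht
    rw [← hw]
    clear hw
    induction w using TensorProduct.induction_on with
    | zero => simp
    | add a b ha hb =>
      simp only [map_add, AlgHom.toRingHom_eq_coe, RingHom.coe_coe] at *
      exact add_mem ha hb
    | tmul a c =>
      have hc : IsIntegral B0 (c : L0) := isIntegral_trans (A := B1) (c : L0) c.2
      exact ⟨a ⊗ₜ ⟨c, hc⟩, rfl⟩

end Groth.Agent.NormalBC
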