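import Groth.Agent.NormalBC.Normal
import Groth.Agent.GeomProp.NormalSep
import Groth.Agent.GeomRedPull.Field
import Mathlib

/-!
Consequences: normal homomorphisms, geometrically normal algebras, separable function fields.
-/

set_option autoImplicit false
set_option linter.style.haveILetI false

namespace Groth.Agent.NormalBC

universe u

open TensorProduct

theorem minimalPrimes_finite_of_subring {T T' : Type u} [CommRing T] [CommRing T'] [Algebra T T'] (M : Submonoid T)
    [IsLocalization M T'] (hinj : Function.Injective (algebraMap T T')) (hfin : (minimalPrimes T').Finite) :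
    (minimalPrimes T).Finite := by
  refine (hfin.image (Ideal.comap (algebraMap T T'))).subset fun q hq => ?_
  haveI : q.IsPrime := hq.1.1
  have hnz : M ≤ nonZeroDivisors T := fun m hm => mem_nonZeroDivisors_iff_right.2 fun z hz => hinj (by
    rw [map_zero]
    refine (IsLocalization.map_units T' ⟨m, hm⟩).mul_left_eq_zero.1 ?_
    rw [← map_mul, hz, map_zero])
  have hd : Disjoint (M : Set T) q :=
    ((Ideal.disjoint_nonZeroDivisors_of_mem_minimalPrimes hq).symm.mono_left hnz)
  haveI := IsLocalization.isPrime_of_isPrime_disjoint M T' q inferInstance hd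
  have hcomap : (q.map (algebraMap T T')).comap (algebraMap T T') = q :=
    IsLocalization.under_map_of_isPrime_disjoint M T' inferInstance hd
  refine ⟨q.map (algebraMap T T'), ⟨⟨inferInstance, bot_le⟩, fun Q hQ hle => ?_⟩, hcomap⟩
  haveI := hQ.1
  have h1 : q ≤ Q.comap (algebraMap T T') :=
    hq.2 ⟨Ideal.IsPrime.comap _, bot_le⟩ ((Ideal.comap_mono hle).trans hcomap.le)
  exact Ideal.map_le_iff_le_comap.2 h1

theorem normal_of_fibre_field {A A' : Type u} [CommRing A] [CommRing A'] [Algebra A A'] (h : EGA4.IsNormalHom A A')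
    (L : Type u) [Field L] [Algebra A L] : EGA4.IsNormalRing (A' ⊗[A] L) := by
  let p := RingHom.ker (algebraMap A L)
  haveI : p.IsPrime := RingHom.ker_isPrime _
  letI : Algebra p.ResidueField L := (Ideal.ResidueField.lift p (algebraMap A L) le_rfl (fun x hx =>
    Ne.isUnit (fun h0 => hx (RingHom.mem_ker.2 h0)))).toAlgebra
  haveI : IsScalarTower A p.ResidueField L := IsScalarTower.of_algebraMap_eq fun a =>
    (Ideal.ResidueField.lift_algebraMap _ _ _ _ a).symm
  have h1 : EGA4.IsNormalRing (L ⊗[p.ResidueField] p.Fiber A') :=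
    GeomProp.normal_all_of_purelyInseparable p.ResidueField (p.Fiber A') (fun k' _ _ hfin _ => h.2 p k' hfin) L
  exact FlatDepth.isNormalRing_of_equiv
    ((Algebra.TensorProduct.cancelBaseChange A p.ResidueField L L A').toRingEquiv.trans
      (Algebra.TensorProduct.comm A L A').toRingEquiv) h1

theorem reduced_of_normalHom {A A' : Type u} [CommRing A] [CommRing A'] [Algebra A A'] (h : EGA4.IsNormalHom A A')
    (L : Type u) [Field L] [Algebra A L] : IsReduced (A' ⊗[A] L) :=
  FlatDepth.isReduced_of_isNormalRing _ (normal_of_fibre_field h L)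

theorem isNormalRing_baseChange (A A' : Type u) [CommRing A] [CommRing A'] [IsNoetherianRing A] [IsNoetherianRing A']
    [Algebra A A'] (h : EGA4.IsNormalHom A A') (B : Type u) [CommRing B] [Algebra A B] (hB : EGA4.IsNormalRing B) :
    EGA4.IsNormalRing (A' ⊗[A] B) := by
  haveI := h.1
  refine normal_tensor (reduced_of_normalHom h) B hB fun L _ _ p _ _ hL => ⟨normal_of_fibre_field h L, ?_⟩
  haveI := hL
  haveI := FlatDepth.isNoetherianRing_tensor_essFinite A A' L
  haveI : IsNoetherianRing (A' ⊗[A] L) :=
    isNoetherianRing_of_ringEquiv (L ⊗[A] A') (Algebra.TensorProduct.comm A L A').toRingEquiv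
  exact minimalPrimes.finite_of_isNoetherianRing _

theorem integralClosure_baseChange (A A' : Type u) [CommRing A] [CommRing A'] [IsNoetherianRing A] [Algebra A A']
    (h : EGA4.IsNormalHom A A') (B C : Type u) [CommRing B] [CommRing C] [Algebra A B] [Algebra A C] [Algebra B C]
    [IsScalarTower A B C] (x : A' ⊗[A] C)
    (hx : (Algebra.TensorProduct.map (AlgHom.id A' A') (IsScalarTower.toAlgHom A B C)).toRingHom.IsIntegralElem x) :
    x ∈ (Algebra.TensorProduct.map (AlgHom.id A' A') ((integralClosure B C).val.restrictScalars A)).range := by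
  haveI := h.1
  exact closure_tensor (reduced_of_normalHom h) x hx

theorem geomNormal_field {k A : Type u} [Field k] [CommRing A] [Algebra k A] (hA : EGA4.IsGeomNormal k A)
    (L : Type u) [Field L] [Algebra k L] : EGA4.IsNormalRing (A ⊗[k] L) :=
  FlatDepth.isNormalRing_of_equiv (Algebra.TensorProduct.comm k L A).toRingEquiv
    (GeomProp.normal_all_of_purelyInseparable k A (fun k' _ _ hfin _ => hA k' hfin) L)

theorem finite_minimalPrimes_tensor_field (k A : Type u) [Field k] [CommRing A] [IsDomain A] [Algebra k A]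
    (L : Type u) [Field L] [Algebra k L] [Algebra.EssFiniteType k L] : (minimalPrimes (A ⊗[k] L)).Finite := by
  let K := FractionRing A
  let f : A ⊗[k] L →ₐ[k] K ⊗[k] L := Algebra.TensorProduct.map (IsScalarTower.toAlgHom k A K) (AlgHom.id k L)
  letI : Algebra (A ⊗[k] L) (K ⊗[k] L) := f.toRingHom.toAlgebra
  haveI : IsScalarTower A (A ⊗[k] L) (K ⊗[k] L) := IsScalarTower.of_algebraMap_eq fun s => by
    show algebraMap A K s ⊗ₜ[k] (1 : L) = f (s ⊗ₜ 1)
    rfl
  haveI : IsLocalization (Algebra.algebraMapSubmonoid (A ⊗[k] L) (nonZeroDivisors A)) (K ⊗[k] L) :=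
    IsLocalization.tensorProduct_tensorProduct k L (nonZeroDivisors A) K (RingHom.ext fun c => by
      show f (1 ⊗ₜ c) = 1 ⊗ₜ c
      exact congrArg (· ⊗ₜ[k] c) (map_one (algebraMap A K)))
  haveI := FlatDepth.isNoetherianRing_tensor_essFinite k K L
  haveI : IsNoetherianRing (K ⊗[k] L) :=
    isNoetherianRing_of_ringEquiv (L ⊗[k] K) (Algebra.TensorProduct.comm k L K).toRingEquiv
  exact minimalPrimes_finite_of_subring (Algebra.algebraMapSubmonoid (A ⊗[k] L) (nonZeroDivisors A))
    (Module.Flat.rTensor_preserves_injective_linearMap (IsScalarTower.toAlgHom k A K).toLinearMap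
      (IsFractionRing.injective A K)) (minimalPrimes.finite_of_isNoetherianRing (K ⊗[k] L))

theorem isNormalRing_tensor_geomNormal (k A B : Type u) [Field k] [CommRing A] [Algebra k A] [CommRing B] [Algebra k B]
    (hA : EGA4.IsGeomNormal k A) (hB : EGA4.IsNormalRing B) : EGA4.IsNormalRing (A ⊗[k] B) := by
  refine GeomProp.normal_localize_left k A B fun p _ => ?_
  have hAp := GeomProp.geomNormal_localization k A p.primeCompl (Localization.AtPrime p) hA
  have hn : EGA4.IsNormalRing A := FlatDepth.isNormalRing_of_equiv (Algebra.TensorProduct.lid k A).toRingEquiv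
    (hA k inferInstance)
  obtain ⟨_, _⟩ := hn p
  exact normal_tensor (fun K _ _ => FlatDepth.isReduced_of_isNormalRing _ (geomNormal_field hAp K)) B hB
    fun L _ _ q _ _ hL => ⟨geomNormal_field hAp L,
      haveI := hL; finite_minimalPrimes_tensor_field k (Localization.AtPrime p) L⟩

theorem exists_algHom_fractionRing (k B R : Type u) [Field k] [CommRing B] [IsDomain B] [Algebra k B] [CommRing R]
    [Algebra B R] [Algebra k R] [IsScalarTower k B R] (M : Submonoid B) (hM : M ≤ nonZeroDivisors B)
    [IsLocalization M R] : ∃ ψ : FractionRing R →ₐ[k] FractionRing B, Function.Injective ψ := by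
  haveI : IsDomain R := IsLocalization.isDomain_of_le_nonZeroDivisors R hM
  have hu : ∀ y : M, IsUnit (IsScalarTower.toAlgHom k B (FractionRing B) y) := fun y =>
    IsLocalization.map_units (FractionRing B) (⟨y, hM y.2⟩ : nonZeroDivisors B)
  let g : R →ₐ[k] FractionRing B := IsLocalization.liftAlgHom hu
  have hg : Function.Injective g := (IsLocalization.lift_injective_iff _).2 fun a b =>
    ⟨fun h => congrArg _ (IsLocalization.injective R hM h),
      fun h => congrArg _ (IsFractionRing.injective B (FractionRing B) h)⟩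
  exact ⟨IsFractionRing.liftAlgHom (K := FractionRing R) hg, RingHom.injective (IsFractionRing.liftAlgHom (K := FractionRing R) hg).toRingHom⟩

theorem isNormalRing_tensor_separable (k A B : Type u) [Field k] [CommRing A] [CommRing B] [IsDomain A] [IsDomain B]
    [IsIntegrallyClosed A] [IsIntegrallyClosed B] [Algebra k A] [Algebra k B]
    [Algebra.IsGeometricallyReduced k (FractionRing A)] [Algebra.IsGeometricallyReduced k (FractionRing B)] :
    EGA4.IsNormalRing (A ⊗[k] B) := by
  have hn : EGA4.IsNormalRing A := GeomProp.isNormalRing_of_domain A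
  haveI : Algebra.IsGeometricallyReduced k A :=
    Algebra.IsGeometricallyReduced.of_injective (IsScalarTower.toAlgHom k A (FractionRing A))
      (IsFractionRing.injective A (FractionRing A))
  refine normal_tensor (fun K _ _ => ?_) B (GeomProp.isNormalRing_of_domain B) fun L _ _ q _ j hL => ⟨?_, ?_⟩
  · haveI := GeomRedPull.isReduced_field_tensor (k := k) (A := A) K
    exact isReduced_of_injective (Algebra.TensorProduct.comm k A K) (Algebra.TensorProduct.comm k A K).injective
  · obtain ⟨ψ, hψ⟩ := exists_algHom_fractionRing k B (Localization.AtPrime q) q.primeCompl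
      q.primeCompl_le_nonZeroDivisors
    haveI : Algebra.IsGeometricallyReduced k L :=
      Algebra.IsGeometricallyReduced.of_injective (ψ.comp j) (hψ.comp j.toRingHom.injective)
    exact FlatDepth.isNormalRing_of_equiv (Algebra.TensorProduct.comm k L A).toRingEquiv
      (GeomProp.normal_tensor_geomReduced k A L hn)
  · haveI := hL
    exact finite_minimalPrimes_tensor_field k A L

theorem isNormalRing_fractionRing {A : Type u} [CommRing A] [IsReduced A] (hfin : (minimalPrimes A).Finite) :
    EGA4.IsNormalRing (FractionRing A) ∧ (minimalPrimes (FractionRing A)).Finite := by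
  classical
  let Q := FractionRing A
  have hfinQ : (minimalPrimes Q).Finite := finite_minimalPrimes_of_localization (nonZeroDivisors A) hfin
  haveI : IsReduced Q := inferInstanceAs (IsReduced (Localization (nonZeroDivisors A)))
  refine ⟨fun q hq => ?_, hfinQ⟩
  have hsub : (q : Set Q) ⊆ ⋃ m ∈ (hfinQ.toFinset : Set (Ideal Q)), (m : Set Q) := fun x hx => by
    by_contra hall
    simp only [Set.mem_iUnion, Finset.mem_coe, Set.Finite.mem_toFinset, SetLike.mem_coe, not_exists] at hall
    have hreg : ∀ y : Q, y * x = 0 → y = 0 := fun y hy => by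
      rw [← Ideal.mem_bot, ← Submodule.zero_eq_bot, ← nilradical_eq_zero Q, nilradical_eq_sInf]
      refine Ideal.mem_sInf.2 fun {P} hP => ?_
      haveI : P.IsPrime := hP
      obtain ⟨m, hm, hle⟩ := Ideal.exists_minimalPrimes_le (I := (⊥ : Ideal Q)) (J := P) bot_le
      exact hle ((hm.1.1.mem_or_mem (hy ▸ zero_mem m : y * x ∈ m)).resolve_right (hall m hm))
    obtain ⟨a, s, rfl⟩ := IsLocalization.exists_mk'_eq (nonZeroDivisors A) x
    have ha : a ∈ nonZeroDivisors A := mem_nonZeroDivisors_iff_right.2 fun b hb => by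
      refine IsFractionRing.injective A Q ((hreg _ ?_).trans (map_zero _).symm)
      rw [IsLocalization.mul_mk'_eq_mk'_of_mul, hb, IsLocalization.mk'_zero]
    exact hq.ne_top (Ideal.eq_top_of_isUnit_mem _ hx (isUnit_of_mul_isUnit_left (y := algebraMap A Q s)
      (by rw [IsLocalization.mk'_spec]; exact IsLocalization.map_units Q (⟨a, ha⟩ : nonZeroDivisors A))))
  obtain ⟨m, hm, hle⟩ := (Ideal.subset_union_prime (f := id) ⊥ ⊥ (fun i hi _ _ =>
    ((Set.Finite.mem_toFinset hfinQ).1 hi).1.1)).1 hsub
  haveI : m.IsPrime := ((Set.Finite.mem_toFinset hfinQ).1 hm).1.1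
  have hqm : q = m := le_antisymm hle (((Set.Finite.mem_toFinset hfinQ).1 hm).2 ⟨hq, bot_le⟩ hle)
  subst hqm
  haveI : Ring.KrullDimLE 0 (Localization.AtPrime q) :=
    Ring.KrullDimLE.of_isLocalization q ((Set.Finite.mem_toFinset hfinQ).1 hm) _
  haveI : IsReduced (Localization.AtPrime q) := inferInstance
  letI := (Ring.KrullDimLE.isField_of_isReduced (R := Localization.AtPrime q)).toField
  exact ⟨inferInstance, inferInstance⟩

theorem isNormalRing_of_iInf (A : Type u) [CommRing A] [IsReduced A] (hfin : (minimalPrimes A).Finite)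
    (S : Set (Subalgebra A (FractionRing A))) (hS : ∀ B ∈ S, EGA4.IsNormalRing B) (hinf : sInf S = ⊥) :
    EGA4.IsNormalRing A := by
  obtain ⟨hQ, hQf⟩ := isNormalRing_fractionRing hfin
  refine isNormalRing_of_integrallyClosed (algebraMap A (FractionRing A)) (IsFractionRing.injective A _) hQ hQf
    fun t ht => ?_
  have hmem : t ∈ (⊥ : Subalgebra A (FractionRing A)) := by
    rw [← hinf, Algebra.mem_sInf]
    intro B hB
    let M := (nonZeroDivisors A).map (algebraMap A B)
    haveI : IsLocalization M (FractionRing A) := by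
      refine ⟨fun ⟨_, a, ha, h⟩ => ?_, fun z => ?_, fun {x y} h => ⟨1, ?_⟩⟩
      · subst h
        rw [← IsScalarTower.algebraMap_apply A B (FractionRing A)]
        exact IsLocalization.map_units (FractionRing A) ⟨a, ha⟩
      · obtain ⟨⟨a, s⟩, h⟩ := IsLocalization.surj (nonZeroDivisors A) z
        exact ⟨⟨algebraMap A B a, ⟨algebraMap A B s, s, s.2, rfl⟩⟩, h⟩
      · rw [OneMemClass.coe_one, one_mul, one_mul]
        exact Subtype.ext h
    have hM : M ≤ nonZeroDivisors B := fun m hm => mem_nonZeroDivisors_iff_right.2 fun z hz => Subtype.ext (by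
      refine (IsLocalization.map_units (FractionRing A) (⟨m, hm⟩ : M)).mul_left_eq_zero.1 ?_
      exact congrArg Subtype.val hz)
    obtain ⟨b, hb⟩ := mem_range_of_isIntegral_localization M hM (hS B hB) t
      (IsIntegral.tower_top (R := A) (show IsIntegral A t from ht))
    rw [← hb]
    exact b.2
  exact Algebra.mem_bot.1 hmem

end Groth.Agent.NormalBC
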