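import Groth.Agent.NormalBC.ValDetect
import Mathlib

/-!
Integral closures commute with flat base change with reduced fibres.
-/

set_option autoImplicit false
set_option linter.style.haveILetI false

namespace Groth.Agent.NormalBC

universe u

open TensorProduct

theorem mem_range_of_pow_mul_mem {R T K : Type u} [CommRing R] [CommRing T] [CommRing K] [IsReduced K]
    (φ : R →+* T) (hφ : Function.Injective φ) (ρ : R →+* K) (π : R) (hρ : ∀ r, ρ r = 0 ↔ π ∣ r)
    (hπ : IsUnit (φ π)) (z : T) (hz : φ.IsIntegralElem z) :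
    ∀ n : ℕ, φ (π ^ n) * z ∈ φ.range → z ∈ φ.range := by
  intro n
  induction n generalizing z with
  | zero => simp
  | succ n ih =>
    intro h
    have hz' : φ.IsIntegralElem (φ (π ^ n) * z) := RingHom.IsIntegralElem.mul φ (φ.isIntegralElem_map) hz
    refine ih z hz ?_
    obtain ⟨y, hy⟩ := h
    obtain ⟨p, hp, hpz⟩ := hz'
    have h1 : Polynomial.eval₂ φ (φ y) (p.scaleRoots π) = 0 := by
      rw [hy, pow_succ', map_mul, mul_assoc]
      exact Polynomial.scaleRoots_eval₂_eq_zero φ hpz
    rw [Polynomial.eval₂_at_apply, ← map_zero φ] at h1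
    have h2 : ρ y ^ p.natDegree = 0 := by
      have h3 : Polynomial.eval y (p.scaleRoots π) = 0 := hφ h1
      have h4 : (p.scaleRoots π).map ρ = Polynomial.X ^ p.natDegree := by
        ext i
        rw [Polynomial.coeff_map, Polynomial.coeff_scaleRoots, Polynomial.coeff_X_pow, map_mul, map_pow,
          (hρ π).2 dvd_rfl]
        rcases lt_trichotomy i p.natDegree with hi | rfl | hi
        · rw [zero_pow (Nat.sub_pos_of_lt hi).ne', mul_zero, if_neg hi.ne]
        · simp [hp.coeff_natDegree]
        · rw [Polynomial.coeff_eq_zero_of_natDegree_lt hi, map_zero, zero_mul, if_neg hi.ne']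
      have h5 := congrArg ρ h3
      rwa [map_zero, ← Polynomial.eval_map_apply, h4, Polynomial.eval_X_pow] at h5
    obtain ⟨y', rfl⟩ := (hρ y).1 (IsReduced.eq_zero _ ⟨_, h2⟩)
    refine ⟨y', hπ.mul_left_cancel ?_⟩
    rw [← map_mul, hy, pow_succ', map_mul, mul_assoc]

variable {A A' : Type u} [CommRing A] [CommRing A'] [Algebra A A'] [Module.Flat A A']

variable (hred : ∀ (K : Type u) [Field K] [Algebra A K], IsReduced (A' ⊗[A] K))
include hred

theorem mem_range_valuation {L : Type u} [Field L] [Algebra A L] (V : ValuationSubring L) [IsDiscreteValuationRing V]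
    [Algebra A V] [IsScalarTower A V L] (z : A' ⊗[A] L)
    (hz : (Algebra.TensorProduct.map (AlgHom.id A' A') (IsScalarTower.toAlgHom A V L)).toRingHom.IsIntegralElem z) :
    z ∈ (Algebra.TensorProduct.map (AlgHom.id A' A') (IsScalarTower.toAlgHom A V L)).range := by
  let φ := Algebra.TensorProduct.map (AlgHom.id A' A') (IsScalarTower.toAlgHom A V L)
  have hinj : Function.Injective φ :=
    Module.Flat.lTensor_preserves_injective_linearMap (IsScalarTower.toAlgHom A V L).toLinearMap
      (FaithfulSMul.algebraMap_injective V L)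
  obtain ⟨π, hπ⟩ := IsDiscreteValuationRing.exists_irreducible V
  let κ := IsLocalRing.ResidueField V
  haveI := hred κ
  let g : V →ₐ[A] κ := IsScalarTower.toAlgHom A V κ
  have hg : Function.Surjective g := IsLocalRing.residue_surjective
  let ρ := Algebra.TensorProduct.map (AlgHom.id A' A') g
  have hker : RingHom.ker (Algebra.TensorProduct.map (AlgHom.id A A') g) = Ideal.span {(1 : A') ⊗ₜ[A] π} := by
    rw [Algebra.TensorProduct.lTensor_ker g hg, show RingHom.ker g = IsLocalRing.maximalIdeal V from
      IsLocalRing.ker_residue, (IsDiscreteValuationRing.irreducible_iff_uniformizer π).1 hπ,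
      Ideal.map_span, Set.image_singleton]
    rfl
  have hexp : ∀ t : A' ⊗[A] L, ∃ n : ℕ, ∀ m, n ≤ m → φ (((1 : A') ⊗ₜ[A] π) ^ m) * t ∈ φ.range := by
    intro t
    induction t using TensorProduct.induction_on with
    | zero => exact ⟨0, fun m _ => by rw [mul_zero]; exact zero_mem _⟩
    | add a b ha hb =>
      obtain ⟨n1, h1⟩ := ha
      obtain ⟨n2, h2⟩ := hb
      exact ⟨max n1 n2, fun m hm => by
        rw [mul_add]
        exact add_mem (h1 m ((le_max_left _ _).trans hm)) (h2 m ((le_max_right _ _).trans hm))⟩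
    | tmul a l =>
      obtain ⟨c, d, hd, rfl⟩ := IsFractionRing.div_surjective (A := V) l
      obtain ⟨n, u, hu⟩ := IsDiscreteValuationRing.eq_unit_mul_pow_irreducible (nonZeroDivisors.ne_zero hd) hπ
      refine ⟨n, fun m hm => ⟨a ⊗ₜ (c * ↑u⁻¹ * π ^ (m - n)), ?_⟩⟩
      have hpn : algebraMap V L (π ^ n) ≠ 0 :=
        (map_ne_zero_iff _ (FaithfulSMul.algebraMap_injective V L)).2 (pow_ne_zero _ hπ.ne_zero)
      rw [Algebra.TensorProduct.tmul_pow, one_pow]
      show φ (a ⊗ₜ _) = φ (1 ⊗ₜ _) * _
      rw [Algebra.TensorProduct.map_tmul, Algebra.TensorProduct.map_tmul, Algebra.TensorProduct.tmul_mul_tmul]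
      congr 1
      · simp
      · show algebraMap V L (c * ↑u⁻¹ * π ^ (m - n)) = algebraMap V L (π ^ m) * (algebraMap V L c / algebraMap V L d)
        rw [eq_comm, ← mul_div_assoc, div_eq_iff ((map_ne_zero_iff _ (FaithfulSMul.algebraMap_injective V L)).2
          (nonZeroDivisors.ne_zero hd)), ← map_mul, ← map_mul, hu]
        congr 1
        calc π ^ m * c = c * (↑u⁻¹ * ↑u) * (π ^ (m - n) * π ^ n) := by
              rw [Units.inv_mul, mul_one, ← pow_add, Nat.sub_add_cancel hm, mul_comm]
          _ = c * ↑u⁻¹ * π ^ (m - n) * (↑u * π ^ n) := by ring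
  obtain ⟨n, hn⟩ := hexp z
  have := mem_range_of_pow_mul_mem φ.toRingHom hinj ρ.toRingHom ((1 : A') ⊗ₜ[A] π) (fun r => by
      rw [← Ideal.mem_span_singleton, ← hker, RingHom.mem_ker]
      rfl)
    (((IsFractionRing.to_map_ne_zero_of_mem_nonZeroDivisors (K := L)
      (mem_nonZeroDivisors_of_ne_zero hπ.ne_zero)) |> Ne.isUnit).map
        (Algebra.TensorProduct.includeRight : L →ₐ[A] A' ⊗[A] L))
    z hz n (hn n le_rfl)
  exact this

/-- The Noetherian case. -/
theorem closure_tensor_noetherian {B C : Type u} [CommRing B] [CommRing C] [Algebra A B] [Algebra A C] [Algebra B C]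
    [IsScalarTower A B C] [IsNoetherianRing B] [Algebra.FiniteType B C] (x : A' ⊗[A] C)
    (hx : (Algebra.TensorProduct.map (AlgHom.id A' A') (IsScalarTower.toAlgHom A B C)).toRingHom.IsIntegralElem x) :
    x ∈ LinearMap.range
      (LinearMap.lTensor A' (((integralClosure B C).toSubmodule.restrictScalars A).subtype)) := by
  classical
  haveI : IsNoetherianRing C := Algebra.FiniteType.isNoetherianRing B C
  obtain ⟨S, hS⟩ := TensorProduct.exists_finset x
  let W : Submodule B C := Submodule.span B ((S.image Prod.snd : Finset C) : Set C)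
  obtain ⟨xW, hxW⟩ : x ∈ LinearMap.range (LinearMap.lTensor A' ((W.restrictScalars A).subtype)) := by
    rw [hS]
    refine Submodule.sum_mem _ fun i hi => ⟨i.1 ⊗ₜ ⟨i.2, Submodule.subset_span (Finset.mem_image_of_mem _ hi)⟩, ?_⟩
    rw [LinearMap.lTensor_tmul]
    rfl
  let S0 := (minimalPrimes.finite_of_isNoetherianRing C).toFinset
  have hS0 : ∀ P : S0, P.1.IsPrime := fun P => ((Set.Finite.mem_toFinset _).1 P.2).1.1
  haveI := hS0
  let g : ∀ P : S0, C →ₐ[B] P.1.ResidueField := fun P => IsScalarTower.toAlgHom B C P.1.ResidueField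
  haveI : ∀ P : S0, Algebra.EssFiniteType B P.1.ResidueField := fun P =>
    Algebra.EssFiniteType.comp B C P.1.ResidueField
  have hWfg : W.FG := Submodule.fg_span (Finset.finite_toSet _)
  choose F hF hFW using fun P : S0 => exists_finite_valuations (W.map (g P).toLinearMap) (hWfg.map _)
  let ι := Σ P : S0, {V // V ∈ F P}
  let Vsub : ∀ i : ι, Submodule A i.1.1.ResidueField := fun i => (valSub i.2.1 (hF i.1 _ i.2.2).2).restrictScalars A
  let Φ : W.restrictScalars A →ₗ[A] ∀ i : ι, i.1.1.ResidueField ⧸ Vsub i :=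
    LinearMap.pi fun i => ((Vsub i).mkQ.comp ((g i.1).toLinearMap.restrictScalars A)).comp (W.restrictScalars A).subtype
  have hkerle : ∀ w : W.restrictScalars A, Φ w = 0 → IsIntegral B (w : C) := fun w hw => by
    have hP : ∀ P : S0, IsIntegral B (g P w) := fun P =>
      hFW P _ (Submodule.mem_map_of_mem w.2) fun V hV => by
        have := congrFun hw ⟨P, V, hV⟩
        exact (Submodule.Quotient.mk_eq_zero (Vsub ⟨P, V, hV⟩)).1 this
    choose q hq hqz using hP
    have hmem : Polynomial.aeval (w : C) (∏ P, q P) ∈ nilradical C := by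
      rw [nilradical_eq_sInf]
      refine Ideal.mem_sInf.2 fun {Q} hQ => ?_
      haveI : Q.IsPrime := hQ
      obtain ⟨P, hP, hle⟩ := Ideal.exists_minimalPrimes_le (I := (⊥ : Ideal C)) (J := Q) bot_le
      let P0 : S0 := ⟨P, (Set.Finite.mem_toFinset _).2 hP⟩
      refine hle ((Ideal.algebraMap_residueField_eq_zero (I := P0.1)).1 ?_)
      show g P0 (Polynomial.aeval (w : C) (∏ P, q P)) = 0
      rw [← Polynomial.aeval_algHom_apply, map_prod]
      exact Finset.prod_eq_zero (Finset.mem_univ P0) (hqz P0)
    obtain ⟨N, hN⟩ := hmem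
    exact ⟨(∏ P, q P) ^ N, (Polynomial.monic_prod_of_monic _ _ fun P _ => hq P).pow N, by
      rw [← Polynomial.aeval_def, map_pow]
      exact hN⟩
  have hzero : LinearMap.lTensor A' Φ xW = 0 := by
    apply (TensorProduct.piRight A A A' fun i : ι => i.1.1.ResidueField ⧸ Vsub i).injective
    rw [map_zero]
    funext i
    let L := i.1.1.ResidueField
    obtain ⟨hVd, hVB⟩ := hF i.1 _ i.2.2
    let V := i.2.1
    letI : Algebra B V := ((algebraMap B L).codRestrict V.toSubring hVB).toAlgebra
    letI : Algebra A V := ((algebraMap B V).comp (algebraMap A B)).toAlgebra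
    haveI : IsScalarTower A V L := IsScalarTower.of_algebraMap_eq fun a => by
      rw [IsScalarTower.algebraMap_apply A B L a]
      rfl
    let gA := (g i.1).restrictScalars A
    let xL : A' ⊗[A] L := Algebra.TensorProduct.map (AlgHom.id A' A') gA x
    have hxL : (Algebra.TensorProduct.map (AlgHom.id A' A') (IsScalarTower.toAlgHom A V L)).toRingHom.IsIntegralElem xL := by
      obtain ⟨p, hp, hpx⟩ := hx
      let bV : B →ₐ[A] V := { algebraMap B V with commutes' := fun a => rfl }
      refine ⟨p.map (Algebra.TensorProduct.map (AlgHom.id A' A') bV).toRingHom, hp.map _, ?_⟩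
      rw [Polynomial.eval₂_map]
      have hcomp : (Algebra.TensorProduct.map (AlgHom.id A' A') (IsScalarTower.toAlgHom A V L)).toRingHom.comp
          (Algebra.TensorProduct.map (AlgHom.id A' A') bV).toRingHom =
          (Algebra.TensorProduct.map (AlgHom.id A' A') gA).toRingHom.comp
            (Algebra.TensorProduct.map (AlgHom.id A' A') (IsScalarTower.toAlgHom A B C)).toRingHom := by
        refine RingHom.ext fun t => ?_
        induction t using TensorProduct.induction_on with
        | zero => simp
        | add a b ha hb => simp only [map_add, ha, hb]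
        | tmul a b =>
          show a ⊗ₜ[A] algebraMap B L b = a ⊗ₜ[A] (algebraMap C L (algebraMap B C b))
          rw [← IsScalarTower.algebraMap_apply B C L]
      rw [hcomp]
      have := congrArg (Algebra.TensorProduct.map (AlgHom.id A' A') gA).toRingHom hpx
      rwa [Polynomial.hom_eval₂, map_zero] at this
    haveI := hVd
    obtain ⟨v, hv⟩ := mem_range_valuation hred V xL hxL
    have hnat : ∀ t : A' ⊗[A] (W.restrictScalars A),
        (TensorProduct.piRight A A A' fun i : ι => i.1.1.ResidueField ⧸ Vsub i) (LinearMap.lTensor A' Φ t) i =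
        LinearMap.lTensor A' (Vsub i).mkQ
          (Algebra.TensorProduct.map (AlgHom.id A' A') gA (LinearMap.lTensor A' (W.restrictScalars A).subtype t)) := fun t => by
      induction t using TensorProduct.induction_on with
      | zero => simp
      | add a b ha hb => simp only [map_add, Pi.add_apply, ha, hb]
      | tmul a b => rfl
    rw [hnat, hxW, show Algebra.TensorProduct.map (AlgHom.id A' A') gA x = xL from rfl, ← hv]
    clear hv
    induction v using TensorProduct.induction_on with
    | zero => simp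
    | add a b ha hb =>
      simp only [AlgHom.toRingHom_eq_coe, RingHom.coe_coe, map_add, Pi.zero_apply] at ha hb ⊢
      rw [ha, hb, add_zero]
    | tmul a b =>
      show a ⊗ₜ[A] (Vsub i).mkQ (algebraMap V L b) = 0
      rw [show (Vsub i).mkQ (algebraMap V L b) = 0 from (Submodule.Quotient.mk_eq_zero _).2 b.2,
        TensorProduct.tmul_zero]
  have hex : Function.Exact (LinearMap.ker Φ).subtype Φ := LinearMap.exact_subtype_ker_map Φ
  have hex' := Module.Flat.lTensor_exact (R := A) A' (N := LinearMap.ker Φ) (N' := W.restrictScalars A)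
    (N'' := ∀ i : ι, i.1.1.ResidueField ⧸ Vsub i) (f := (LinearMap.ker Φ).subtype) (g := Φ) hex
  obtain ⟨z, hz⟩ := (hex' xW).1 hzero
  let inc : LinearMap.ker Φ →ₗ[A] (integralClosure B C).toSubmodule.restrictScalars A :=
    ((W.restrictScalars A).subtype.comp (LinearMap.ker Φ).subtype).codRestrict _ fun w => hkerle w.1 w.2
  refine ⟨LinearMap.lTensor A' inc z, ?_⟩
  rw [← LinearMap.lTensor_comp_apply, ← hxW, ← hz, ← LinearMap.lTensor_comp_apply]
  rfl

/-- Integral closure commutes with a flat base change with reduced fibres. -/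
theorem closure_tensor [IsNoetherianRing A] {B C : Type u} [CommRing B] [CommRing C] [Algebra A B] [Algebra A C]
    [Algebra B C] [IsScalarTower A B C] (x : A' ⊗[A] C)
    (hx : (Algebra.TensorProduct.map (AlgHom.id A' A') (IsScalarTower.toAlgHom A B C)).toRingHom.IsIntegralElem x) :
    x ∈ (Algebra.TensorProduct.map (AlgHom.id A' A') ((integralClosure B C).val.restrictScalars A)).range := by
  classical
  obtain ⟨p, hp, hpx⟩ := hx
  choose S hS using fun i : ℕ => TensorProduct.exists_finset (p.coeff i)
  let bs : Finset B := (Finset.range (p.natDegree + 1)).biUnion fun i => (S i).image Prod.snd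
  let B0 := Algebra.adjoin A (bs : Set B)
  haveI : Algebra.FiniteType A B0 := (Subalgebra.fg_iff_finiteType B0).1 ⟨bs, rfl⟩
  haveI : IsNoetherianRing B0 := Algebra.FiniteType.isNoetherianRing A B0
  obtain ⟨T, hT⟩ := TensorProduct.exists_finset x
  let C0 := Algebra.adjoin B0 ((T.image Prod.snd : Finset C) : Set C)
  haveI : Algebra.FiniteType B0 C0 := (Subalgebra.fg_iff_finiteType C0).1 ⟨_, rfl⟩
  let ψ := Algebra.TensorProduct.map (AlgHom.id A' A') (C0.val.restrictScalars A)
  have hψ : Function.Injective ψ :=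
    Module.Flat.lTensor_preserves_injective_linearMap (C0.val.restrictScalars A).toLinearMap Subtype.val_injective
  obtain ⟨x0, hx0⟩ : x ∈ ψ.range := by
    rw [hT]
    exact sum_mem fun i hi => ⟨i.1 ⊗ₜ ⟨i.2, Algebra.subset_adjoin (Finset.mem_image_of_mem _ hi)⟩, rfl⟩
  let β := Algebra.TensorProduct.map (AlgHom.id A' A') B0.val
  have hlift : p ∈ Polynomial.lifts β.toRingHom := by
    rw [Polynomial.lifts_iff_coeff_lifts]
    intro i
    by_cases hi : i ≤ p.natDegree
    · refine (show p.coeff i ∈ β.range from ?_)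
      rw [hS i]
      exact sum_mem fun j hj => ⟨j.1 ⊗ₜ ⟨j.2, Algebra.subset_adjoin (Finset.mem_biUnion.2
        ⟨i, Finset.mem_range.2 (Nat.lt_succ_of_le hi), Finset.mem_image_of_mem _ hj⟩)⟩, rfl⟩
    · exact ⟨0, by rw [map_zero, Polynomial.coeff_eq_zero_of_natDegree_lt (not_le.1 hi)]⟩
  obtain ⟨q, hq, -, hqm⟩ := Polynomial.lifts_and_natDegree_eq_and_monic hlift hp
  have h0 : (Algebra.TensorProduct.map (AlgHom.id A' A') (IsScalarTower.toAlgHom A B0 C0)).toRingHom.IsIntegralElem x0 := by
    refine ⟨q, hqm, hψ ?_⟩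
    rw [map_zero]
    show ψ.toRingHom _ = 0
    rw [Polynomial.hom_eval₂]
    have hcomp : ψ.toRingHom.comp (Algebra.TensorProduct.map (AlgHom.id A' A') (IsScalarTower.toAlgHom A B0 C0)).toRingHom =
        (Algebra.TensorProduct.map (AlgHom.id A' A') (IsScalarTower.toAlgHom A B C)).toRingHom.comp β.toRingHom := by
      refine RingHom.ext fun t => ?_
      induction t using TensorProduct.induction_on with
      | zero => simp
      | add a b ha hb => simp only [map_add, ha, hb]
      | tmul a b => rfl
    rw [hcomp, ← Polynomial.eval₂_map, hq]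
    show Polynomial.eval₂ _ (ψ x0) p = 0
    rw [show ψ x0 = x from hx0]
    exact hpx
  obtain ⟨z, hz⟩ := closure_tensor_noetherian hred x0 h0
  have hint : ∀ c : (integralClosure B0 C0).toSubmodule.restrictScalars A, IsIntegral B ((c : C0) : C) := fun c => by
    obtain ⟨r, hr, hrc⟩ := (c.2 : IsIntegral B0 (c : C0))
    refine ⟨r.map B0.val.toRingHom, hr.map _, ?_⟩
    rw [Polynomial.eval₂_map]
    have := congrArg C0.val.toRingHom hrc
    rwa [Polynomial.hom_eval₂, map_zero] at this
  let inc : (integralClosure B0 C0).toSubmodule.restrictScalars A →ₗ[A] integralClosure B C :=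
    { toFun := fun c => ⟨((c : C0) : C), hint c⟩
      map_add' := fun _ _ => rfl
      map_smul' := fun a c => Subtype.ext rfl }
  refine ⟨LinearMap.lTensor A' inc z, ?_⟩
  rw [← hx0, ← hz]
  clear hz
  induction z using TensorProduct.induction_on with
  | zero => simp
  | add a b ha hb => simp only [map_add, AlgHom.toRingHom_eq_coe, RingHom.coe_coe] at *; rw [ha, hb]
  | tmul a b => rfl

end Groth.Agent.NormalBC
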