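import Mathlib

/-!
The trace of an integral element of a finite free algebra over an arbitrary commutative ring is integral.
-/

set_option autoImplicit false

namespace Groth.Agent.NormalBC

universe u v w

theorem isIntegral_of_forall_prime {A : Type u} {K : Type v} [CommRing A] [CommRing K] [Algebra A K] (x : K)
    (h : ∀ P : Ideal K, P.IsPrime → ∃ q : Polynomial A, q.Monic ∧ Polynomial.aeval x q ∈ P) : IsIntegral A x := by
  let S : Submonoid K :=
    { carrier := {y | ∃ q : Polynomial A, q.Monic ∧ Polynomial.aeval x q = y}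
      one_mem' := ⟨1, Polynomial.monic_one, map_one _⟩
      mul_mem' := fun {a b} ⟨p, hp, hpa⟩ ⟨q, hq, hqb⟩ => ⟨p * q, hp.mul hq, by rw [map_mul, hpa, hqb]⟩ }
  by_contra hx
  have hd : Disjoint ((⊥ : Ideal K) : Set K) (S : Set K) := by
    rw [Set.disjoint_left]
    rintro y hy ⟨q, hq, hqy⟩
    exact hx ⟨q, hq, by rw [← Polynomial.aeval_def, hqy]; exact hy⟩
  obtain ⟨P, hP, -, hPS⟩ := Ideal.exists_le_prime_disjoint _ S hd
  obtain ⟨q, hq, hqP⟩ := h P hP
  exact Set.disjoint_left.1 hPS hqP ⟨q, hq, rfl⟩

theorem isIntegral_matrix_trace_field {A : Type u} {F : Type v} [CommRing A] [Field F] [IsAlgClosed F] [Algebra A F]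
    {n : Type w} [Fintype n] [DecidableEq n] (M : Matrix n n F) (hM : IsIntegral A M) : IsIntegral A M.trace := by
  obtain ⟨p, hp, hpM⟩ := hM
  rw [Matrix.trace_eq_sum_roots_charpoly_of_splits (IsAlgClosed.splits _)]
  refine Subalgebra.multiset_sum_mem (integralClosure A F) fun r hr => ?_
  have hr' : r ∈ spectrum F M := Matrix.mem_spectrum_iff_isRoot_charpoly.2 (Polynomial.isRoot_of_mem_roots hr)
  have hne : M.charpoly ≠ 0 := M.charpoly_monic.ne_zero
  haveI : Nontrivial (Matrix n n F) := by
    by_contra hnt
    rw [not_nontrivial_iff_subsingleton] at hnt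
    exact Set.notMem_empty r ((spectrum.of_subsingleton (R := F) M) ▸ hr')
  have h1 : Polynomial.aeval M (p.map (algebraMap A F)) = 0 := by
    rw [Polynomial.aeval_map_algebraMap, Polynomial.aeval_def]
    exact hpM
  have h2 := spectrum.subset_polynomial_aeval M (p.map (algebraMap A F)) ⟨r, hr', rfl⟩
  rw [h1, spectrum.zero_eq, Set.mem_singleton_iff] at h2
  refine ⟨p, hp, ?_⟩
  rw [Polynomial.eval₂_eq_eval_map]
  exact h2

/-- The trace of an integral element is integral. -/
theorem isIntegral_trace_of_free {A : Type u} {K : Type v} {L : Type w} [CommRing A] [CommRing K] [CommRing L]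
    [Algebra A K] [Algebra K L] [Algebra A L] [IsScalarTower A K L] [Module.Free K L] [Module.Finite K L]
    {y : L} (hy : IsIntegral A y) : IsIntegral A (Algebra.trace K L y) := by
  classical
  refine isIntegral_of_forall_prime _ fun P hP => ?_
  cases subsingleton_or_nontrivial K with
  | inl h => exact absurd (Subsingleton.elim P ⊤) hP.ne_top
  | inr h =>
    let b := Module.Free.chooseBasis K L
    let F := AlgebraicClosure (FractionRing (K ⧸ P))
    let φ : K →+* F := (algebraMap (K ⧸ P) F).comp (Ideal.Quotient.mk P)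
    letI : Algebra A F := (φ.comp (algebraMap A K)).toAlgebra
    let φA : K →ₐ[A] F := { φ with commutes' := fun _ => rfl }
    have hM : IsIntegral A ((φA.mapMatrix) ((Algebra.leftMulMatrix b).restrictScalars A y)) :=
      (hy.map ((Algebra.leftMulMatrix b).restrictScalars A)).map φA.mapMatrix
    obtain ⟨q, hq, hqx⟩ := isIntegral_matrix_trace_field _ hM
    refine ⟨q, hq, ?_⟩
    rw [Algebra.trace_eq_matrix_trace b]
    rw [← Ideal.Quotient.eq_zero_iff_mem]
    have hinj : Function.Injective (algebraMap (K ⧸ P) F) := by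
      rw [IsScalarTower.algebraMap_eq (K ⧸ P) (FractionRing (K ⧸ P)) F]
      exact (algebraMap (FractionRing (K ⧸ P)) F).injective.comp (IsFractionRing.injective _ _)
    refine hinj ?_
    rw [map_zero]
    show φA (Polynomial.aeval _ q) = 0
    rw [← Polynomial.aeval_algHom_apply, Polynomial.aeval_def, AddMonoidHom.map_trace φA]
    exact hqx

end Groth.Agent.NormalBC
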