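import Groth.Agent.DvrDom.Basic
import Mathlib

/-!
Finitely many discrete valuation rings detect integrality in a finitely generated module.
-/

set_option autoImplicit false
set_option linter.style.haveILetI false

namespace Groth.Agent.NormalBC

universe u

open IsLocalRing Polynomial

variable {B L : Type u} [CommRing B] [Field L] [Algebra B L]

theorem isIntegral_of_mem_adjoin_inv (x : L) (hx : x ∈ Algebra.adjoin B {x⁻¹}) : IsIntegral B x := by
  rcases eq_or_ne x 0 with rfl | h0
  · exact isIntegral_zero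
  rw [Algebra.adjoin_singleton_eq_range_aeval] at hx
  obtain ⟨p, hp⟩ := hx
  let n := p.natDegree
  refine ⟨X ^ (n + 1) - ∑ i ∈ Finset.range (n + 1), C (p.coeff i) * X ^ (n - i),
    monic_X_pow_sub (lt_of_le_of_lt ((degree_sum_le _ _).trans (Finset.sup_le (a := (n : WithBot ℕ)) fun i _ => ?_))
      (WithBot.coe_lt_coe.2 n.lt_succ_self)), ?_⟩
  · exact (degree_C_mul_X_pow_le _ _).trans (WithBot.coe_le_coe.2 (Nat.sub_le _ _))
  · rw [eval₂_sub, eval₂_X_pow, eval₂_finsetSum, sub_eq_zero]
    have h1 : x ^ n * x = x ^ n * aeval x⁻¹ p := congrArg (x ^ n * ·) hp.symm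
    rw [aeval_eq_sum_range, Finset.mul_sum, ← pow_succ] at h1
    rw [h1]
    refine Finset.sum_congr rfl fun i hi => ?_
    rw [eval₂_mul, eval₂_C, eval₂_X_pow, Algebra.smul_def, inv_pow,
      pow_sub₀ x h0 (Nat.lt_succ_iff.1 (Finset.mem_range.1 hi))]
    ring

/-- An element not integral over a Noetherian ring is excluded by a discrete valuation ring. -/
theorem exists_dvr_notMem [IsNoetherianRing B] [Algebra.EssFiniteType B L] (x : L) (hx : ¬ IsIntegral B x) :
    ∃ V : ValuationSubring L, IsDiscreteValuationRing V ∧ (∀ b, algebraMap B L b ∈ V) ∧ x ∉ V := by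
  let C := Algebra.adjoin B ({x⁻¹} : Set L)
  haveI : Algebra.FiniteType B C := (Subalgebra.fg_iff_finiteType C).1 ⟨{x⁻¹}, by simp [C]⟩
  haveI : IsNoetherianRing C := Algebra.FiniteType.isNoetherianRing B C
  let y : C := ⟨x⁻¹, Algebra.subset_adjoin rfl⟩
  have h0 : x ≠ 0 := fun h => hx (h ▸ isIntegral_zero)
  have hy : ¬ IsUnit y := fun h => by
    obtain ⟨z, hz⟩ := h.exists_right_inv
    have hzx : (z : L) = x := by
      have := congrArg Subtype.val hz
      simp only [MulMemClass.coe_mul, OneMemClass.coe_one, y] at this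
      field_simp at this
      exact this
    exact hx (isIntegral_of_mem_adjoin_inv x (by have h := z.2; rwa [hzx] at h))
  obtain ⟨Q, hQ, hyQ⟩ := exists_max_ideal_of_mem_nonunits (show y ∈ nonunits C from hy)
  haveI := hQ.isPrime
  let A := Localization.AtPrime Q
  haveI : IsNoetherianRing A := IsLocalization.isNoetherianRing Q.primeCompl A inferInstance
  by_cases hQ0 : ∀ c ∈ Q, (c : L) = 0
  · exact absurd (hQ0 y hyQ) (inv_ne_zero h0)
  let φ : A →+* L := IsLocalization.lift (M := Q.primeCompl) (g := C.val.toRingHom) (fun c => by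
    refine Ne.isUnit fun h => c.2 ?_
    rw [show (c : C) = 0 from Subtype.ext h]
    exact zero_mem Q)
  have hφ : φ.EssFiniteType := by
    refine RingHom.EssFiniteType.of_comp (algebraMap B A) ?_
    have : φ.comp (algebraMap B A) = algebraMap B L := by
      ext b
      rw [IsScalarTower.algebraMap_eq B C A, RingHom.comp_apply, RingHom.comp_apply, IsLocalization.lift_eq]
      rfl
    rw [this, RingHom.essFiniteType_algebraMap]
    infer_instance
  obtain ⟨V, hV, hVA, hVm⟩ := DvrDom.exists_dvr_dominating_hom (A := A) φ hφ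
    (a₀ := algebraMap C A y) ((IsLocalization.AtPrime.to_map_mem_maximal_iff A Q y).2 hyQ)
    (by rw [IsLocalization.lift_eq]; exact inv_ne_zero h0)
  refine ⟨V, hV, fun b => ?_, fun hxV => ?_⟩
  · have := hVA (algebraMap C A (algebraMap B C b))
    rwa [IsLocalization.lift_eq] at this
  · have h1 := hVm _ ((IsLocalization.AtPrime.to_map_mem_maximal_iff A Q y).2 hyQ)
    rw [IsLocalization.lift_eq] at h1
    have h2 := (V.valuation_le_one_iff x).2 hxV
    change V.valuation x⁻¹ < 1 at h1
    rw [map_inv₀, inv_lt_one₀ ((Valuation.pos_iff _).2 h0)] at h1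
    exact absurd h2 (not_le.2 h1)

/-- A valuation subring containing the base ring, as a submodule. -/
def valSub (V : ValuationSubring L) (hV : ∀ b, algebraMap B L b ∈ V) : Submodule B L where
  carrier := V
  zero_mem' := V.zero_mem
  add_mem' := V.add_mem _ _
  smul_mem' b x hx := by
    rw [Algebra.smul_def]
    exact V.mul_mem _ _ (hV b) hx

theorem isIntegral_mem (V : ValuationSubring L) (hV : ∀ b, algebraMap B L b ∈ V) {x : L} (hx : IsIntegral B x) :
    x ∈ V := by
  let f : B →+* V := (algebraMap B L).codRestrict V.toSubring hV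
  obtain ⟨p, hp, hpx⟩ := hx
  have h1 : IsIntegral V x := ⟨p.map f, hp.map f, by
    rw [eval₂_map]
    exact hpx⟩
  obtain ⟨y, hy⟩ := IsIntegrallyClosed.isIntegral_iff.1 h1
  rw [← hy]
  exact y.2

/-- Finitely many valuations detect the submodule `K`. -/
def Detects (N : Type u) [AddCommGroup N] [Module B N] : Prop :=
  ∀ (K : Submodule B N) (j : K →ₗ[B] L ⧸ (integralClosure B L).toSubmodule), Function.Injective j →
    ∃ F : Finset (ValuationSubring L), (∀ V ∈ F, IsDiscreteValuationRing V ∧ ∀ b, algebraMap B L b ∈ V) ∧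
      ∀ k : K, (∀ V ∈ F, ∃ x ∈ V, (Submodule.Quotient.mk x : L ⧸ (integralClosure B L).toSubmodule) = j k) → k = 0

theorem detects_finite [IsNoetherianRing B] [Algebra.EssFiniteType B L] (N : Type u) [AddCommGroup N] [Module B N]
    [hN : Module.Finite B N] : Detects (B := B) (L := L) N := by
  classical
  refine IsNoetherianRing.induction_on_isQuotientEquivQuotientPrime B hN
    (motive := fun N _ _ _ => Detects (B := B) (L := L) N)
    (fun N _ _ _ _ K j _ => ⟨∅, by simp, fun k _ => Subsingleton.elim _ _⟩) ?_ ?_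
  · intro N _ _ _ p e K j hj
    by_cases hK : ∀ k : K, k = 0
    · exact ⟨∅, by simp, fun k _ => hK k⟩
    push Not at hK
    obtain ⟨k0, hk0⟩ := hK
    obtain ⟨x, hx⟩ := Submodule.Quotient.mk_surjective _ (j k0)
    have htor : ∀ t ∈ p.asIdeal, ∀ k : K, t • k = 0 := fun t ht k => Subtype.ext (e.injective (by
      obtain ⟨c, hc⟩ := Ideal.Quotient.mk_surjective (e k)
      rw [Submodule.coe_smul, map_smul, Submodule.coe_zero, map_zero, ← hc]
      show Ideal.Quotient.mk p.asIdeal (t * c) = 0
      exact Ideal.Quotient.eq_zero_iff_mem.2 (Ideal.mul_mem_right _ _ ht)))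
    have hfree : ∀ (t : B) (k : K), k ≠ 0 → t • k = 0 → t ∈ p.asIdeal := fun t k hk htk => by
      by_contra htp
      apply hk
      refine Subtype.ext (e.injective ?_)
      have h1 : t • e k = 0 := by rw [← map_smul, ← Submodule.coe_smul, htk]; simp
      obtain ⟨c, hc⟩ := Ideal.Quotient.mk_surjective (e k)
      rw [← hc] at h1 ⊢
      rw [Submodule.coe_zero, map_zero]
      refine Ideal.Quotient.eq_zero_iff_mem.2 ((p.isPrime.mem_or_mem ?_).resolve_left htp)
      exact Ideal.Quotient.eq_zero_iff_mem.1 h1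
    let P := p.asIdeal
    let A := Localization.AtPrime P
    haveI : IsNoetherianRing A := IsLocalization.isNoetherianRing P.primeCompl A inferInstance
    have hD : ∀ t : B, t • x ∈ (integralClosure B L).toSubmodule → t ∈ P := fun t ht => by
      refine hfree t k0 hk0 (hj ?_)
      rw [map_smul, ← hx, ← Submodule.Quotient.mk_smul, map_zero]
      exact (Submodule.Quotient.mk_eq_zero _).2 ht
    let φ : A →+* L := IsLocalization.lift (M := P.primeCompl) (g := algebraMap B L) (fun t => Ne.isUnit fun h => t.2 (hD t (by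
      rw [Algebra.smul_def, h, zero_mul]
      exact zero_mem _)))
    letI : Algebra A L := φ.toAlgebra
    haveI : IsScalarTower B A L := IsScalarTower.of_algebraMap_eq fun b => (IsLocalization.lift_eq _ b).symm
    haveI : Algebra.EssFiniteType A L := Algebra.EssFiniteType.of_comp B A L
    have hnint : ¬ IsIntegral A x := fun h => by
      obtain ⟨t, ht⟩ := IsIntegral.exists_multiple_integral_of_isLocalization P.primeCompl x h
      exact t.2 (hD t ht)
    obtain ⟨V, hVd, hVA, hxV⟩ := exists_dvr_notMem (B := A) x hnint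
    have hVB : ∀ b, algebraMap B L b ∈ V := fun b => by rw [IsScalarTower.algebraMap_apply B A L]; exact hVA _
    refine ⟨{V}, fun W hW => ?_, fun k hk => ?_⟩
    · rw [Finset.mem_singleton.1 hW]
      exact ⟨hVd, hVB⟩
    · obtain ⟨z, hzV, hz⟩ := hk V (Finset.mem_singleton_self V)
      obtain ⟨a, ha⟩ := Ideal.Quotient.mk_surjective (e k)
      obtain ⟨a0, ha0⟩ := Ideal.Quotient.mk_surjective (e k0)
      have hcross : a0 • k = a • k0 := Subtype.ext (e.injective (by
        rw [Submodule.coe_smul, Submodule.coe_smul, map_smul, map_smul, ← ha, ← ha0]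
        show Ideal.Quotient.mk _ (a0 * a) = Ideal.Quotient.mk _ (a * a0)
        rw [mul_comm]))
      by_contra hkne
      by_cases hap : a ∈ P
      · refine hk0 (Subtype.ext (e.injective ?_))
        have : a0 ∈ P := hfree a0 k hkne (by rw [hcross, htor a hap])
        rw [← ha0, Submodule.coe_zero, map_zero]
        exact Ideal.Quotient.eq_zero_iff_mem.2 this
      · have h1 : (Submodule.Quotient.mk (a0 • z) : L ⧸ (integralClosure B L).toSubmodule) = Submodule.Quotient.mk (a • x) := by
          rw [Submodule.Quotient.mk_smul, Submodule.Quotient.mk_smul, hz, hx, ← map_smul, ← map_smul, hcross]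
        have h2 : a • x ∈ V := by
          have h3 := isIntegral_mem V hVB ((Submodule.Quotient.eq _).1 h1)
          have h4 : a0 • z - (a0 • z - a • x) ∈ V := V.toSubring.sub_mem ((valSub V hVB).smul_mem a0 hzV) h3
          rwa [sub_sub_cancel] at h4
        refine hxV ?_
        have h5 := V.mul_mem _ _ (hVA (IsLocalization.mk' A 1 (⟨a, hap⟩ : P.primeCompl))) h2
        rwa [Algebra.smul_def, IsScalarTower.algebraMap_apply B A L, ← mul_assoc, ← map_mul, IsLocalization.mk'_spec,
          map_one, map_one, one_mul] at h5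
  · intro N₁ _ _ _ N₂ _ _ _ N₃ _ _ _ f g hf _ hfg h1 h3 K j hj
    let fK : K.comap f →ₗ[B] K := (f.comp (K.comap f).subtype).codRestrict K fun c => c.2
    have hfK : Function.Injective fK := fun a b hab => Subtype.ext (hf (congrArg Subtype.val hab))
    obtain ⟨F1, hF1, hF1'⟩ := h1 (K.comap f) (j.comp fK) (hj.comp hfK)
    let K'' : Submodule B K := ⨅ (V : ValuationSubring L) (h : V ∈ F1),
      ((valSub V (hF1 V h).2).map (integralClosure B L).toSubmodule.mkQ).comap j
    let g' : K'' →ₗ[B] N₃ := g.comp (K.subtype.comp K''.subtype)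
    have hK'' : ∀ c : K'', ∀ V ∈ F1, ∃ x ∈ V,
        (Submodule.Quotient.mk x : L ⧸ (integralClosure B L).toSubmodule) = j c.1 := fun c V hV => by
      have h := c.2
      simp only [K'', Submodule.mem_iInf, Submodule.mem_comap, Submodule.mem_map] at h
      obtain ⟨x, hx, hx'⟩ := h V hV
      exact ⟨x, hx, hx'⟩
    have hg' : Function.Injective g' := (injective_iff_map_eq_zero g').2 fun c hc => by
      obtain ⟨n, hn⟩ := (hfg (c.1 : N₂)).1 hc
      have hnK : n ∈ K.comap f := by rw [Submodule.mem_comap, hn]; exact c.1.2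
      have := hF1' ⟨n, hnK⟩ fun V hV => by
        obtain ⟨x, hx, hx'⟩ := hK'' c V hV
        exact ⟨x, hx, hx'.trans (congrArg j (Subtype.ext hn.symm))⟩
      refine Subtype.ext (Subtype.ext ?_)
      rw [← hn, show n = 0 from congrArg Subtype.val this, map_zero]
      rfl
    let e := LinearEquiv.ofInjective g' hg'
    obtain ⟨F2, hF2, hF2'⟩ := h3 (LinearMap.range g') ((j.comp K''.subtype).comp e.symm.toLinearMap)
      ((hj.comp Subtype.val_injective).comp e.symm.injective)
    refine ⟨F1 ∪ F2, fun V hV => (Finset.mem_union.1 hV).elim (hF1 V) (hF2 V), fun k hk => ?_⟩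
    have hkK : k ∈ K'' := by
      simp only [K'', Submodule.mem_iInf, Submodule.mem_comap, Submodule.mem_map]
      intro V hV
      obtain ⟨x, hx, hx'⟩ := hk V (Finset.mem_union_left _ hV)
      exact ⟨x, hx, hx'⟩
    have h4 := hF2' (e ⟨k, hkK⟩) fun V hV => by
      obtain ⟨x, hx, hx'⟩ := hk V (Finset.mem_union_right _ hV)
      exact ⟨x, hx, by simpa using hx'⟩
    rw [LinearEquiv.map_eq_zero_iff] at h4
    exact congrArg Subtype.val h4

/-- Integrality in a finitely generated submodule is detected by finitely many discrete valuation rings. -/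
theorem exists_finite_valuations [IsNoetherianRing B] [Algebra.EssFiniteType B L] (W : Submodule B L) (hW : W.FG) :
    ∃ F : Finset (ValuationSubring L), (∀ V ∈ F, IsDiscreteValuationRing V ∧ ∀ b, algebraMap B L b ∈ V) ∧
      ∀ w ∈ W, (∀ V ∈ F, w ∈ V) → IsIntegral B w := by
  let D := (integralClosure B L).toSubmodule
  haveI : Module.Finite B (W.map D.mkQ) := Module.Finite.iff_fg.2 (hW.map _)
  obtain ⟨F, hF, hF'⟩ := detects_finite (B := B) (L := L) (W.map D.mkQ) ⊤
    ((W.map D.mkQ).subtype.comp (⊤ : Submodule B (W.map D.mkQ)).subtype)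
    (Subtype.val_injective.comp Subtype.val_injective)
  refine ⟨F, hF, fun w hw hwV => ?_⟩
  have := hF' ⟨⟨D.mkQ w, Submodule.mem_map_of_mem hw⟩, trivial⟩ fun V hV => ⟨w, hwV V hV, rfl⟩
  exact (Submodule.Quotient.mk_eq_zero D).1 (congrArg Subtype.val (congrArg Subtype.val this))

end Groth.Agent.NormalBC
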